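/-
The centraliser of an involution fixing an octad pointwise, as an affine group.
-/
import Cfsg.Agent.Lib.Golay.OctInvol

set_option autoImplicit false
set_option linter.style.haveILetI false
set_option linter.unusedSectionVars false

namespace CfsgOctAffine

open Cfsg CfsgGolay Matrix
open scoped Pointwise

attribute [local irreducible] codeL octadL dodecadL slpCodes

abbrev W4 : Type := Fin 4 → ZMod 2

theorem z2_flip : ∀ p q r s : ZMod 2, p + q * (r + s) + (q + q * (1 + 1)) * (r + s) = p := by decide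

theorem z2_one : ∀ v : ZMod 2, v ≠ 0 → v = 1 := by decide

/-- Linear coordinates on an elementary abelian group of order sixteen. -/
theorem exists_coord {A : Type} [Group A] [Finite A] (hc : Nat.card A = 16) (h2 : ∀ a : A, a * a = 1)
    {z : A} (hz : z ≠ 1) : ∃ ψ : A ≃* Multiplicative W4, ψ z = Multiplicative.ofAdd (Pi.single 0 1) := by
  classical
  haveI : Fact (Nat.Prime 2) := ⟨Nat.prime_two⟩
  letI : CommGroup A := { (inferInstance : Group A) with
    mul_comm := fun a b => by
      have hi : ∀ x : A, x⁻¹ = x := fun x => inv_eq_of_mul_eq_one_right (h2 x)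
      rw [← hi (a * b), _root_.mul_inv_rev, hi, hi] }
  letI : Module (ZMod 2) (Additive A) := AddCommGroup.zmodModule fun x => by
    rw [two_nsmul]; exact h2 (Additive.toMul x)
  haveI : Module.Finite (ZMod 2) (Additive A) := Module.Finite.of_finite
  have hdim : Module.finrank (ZMod 2) (Additive A) = 4 := by
    have h := Module.natCard_eq_pow_finrank (K := ZMod 2) (V := Additive A)
    rw [show Nat.card (Additive A) = 16 from hc, Nat.card_zmod] at h
    exact Nat.pow_right_injective (le_refl 2) (h.symm.trans (by norm_num))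
  let e₀ : Additive A ≃ₗ[ZMod 2] W4 := LinearEquiv.ofFinrankEq _ _ (by rw [hdim, Module.finrank_pi]; simp)
  have hT : ∀ a : W4, a ≠ 0 → ∃ T : W4 ≃ₗ[ZMod 2] W4, T a = Pi.single 0 1 := by
    intro a ha
    have flip : ∀ b : W4, b 0 = 1 → ∃ T : W4 ≃ₗ[ZMod 2] W4, T b = Pi.single 0 1 := by
      intro b hb
      let f : W4 →ₗ[ZMod 2] W4 :=
        { toFun := fun x => x + x 0 • (b + Pi.single 0 1)
          map_add' := fun x y => by simp only [Pi.add_apply, add_smul]; abel
          map_smul' := fun c x => by simp [smul_add, mul_smul] }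
      have hf : ∀ x, f (f x) = x := fun x => by
        funext i
        simp only [f, LinearMap.coe_mk, AddHom.coe_mk, Pi.add_apply, Pi.smul_apply, Pi.single_eq_same, hb,
          smul_eq_mul]
        generalize x i = p, x 0 = q, b i = r, (Pi.single (0 : Fin 4) (1 : ZMod 2) : W4) i = s
        exact z2_flip _ _ _ _
      refine ⟨LinearEquiv.ofInvolutive f hf, ?_⟩
      funext i
      show (b + b 0 • (b + (Pi.single 0 1 : W4)) : W4) i = _
      simp only [hb, one_smul, Pi.add_apply]
      rw [← add_assoc, CharTwo.add_self_eq_zero, zero_add]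
    obtain ⟨i, hi⟩ := Function.ne_iff.mp ha
    have hi1 : a i = 1 := z2_one _ hi
    let P : W4 ≃ₗ[ZMod 2] W4 := LinearEquiv.funCongrLeft (ZMod 2) (ZMod 2) (Equiv.swap 0 i)
    obtain ⟨T, hT⟩ := flip (P a) (by simp [P, LinearEquiv.funCongrLeft, LinearMap.funLeft, hi1])
    exact ⟨P.trans T, hT⟩
  have hne : e₀ (Additive.ofMul z) ≠ 0 := fun h => hz (by
    have := e₀.injective (h.trans e₀.map_zero.symm)
    exact this)
  obtain ⟨T, hT⟩ := hT _ hne
  let φ : Additive A ≃+ W4 := (e₀.trans T).toAddEquiv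
  refine ⟨AddEquiv.toMultiplicativeRight φ, ?_⟩
  exact congrArg Multiplicative.ofAdd hT

variable {o : Finset GolayPt} (ho : o ∈ octads) (p : GolayPt)
  (ψ : ↥(fixOct o) ≃* Multiplicative W4)

theorem fix_conj {g : Equiv.Perm GolayPt} (hg : g ∈ stabM o) {x : Equiv.Perm GolayPt} (hx : x ∈ fixOct o) :
    g * x * g⁻¹ ∈ fixOct o := by
  obtain ⟨hM, hgo⟩ := mem_stabM.mp hg
  refine Subgroup.mem_inf.mpr ⟨mul_mem (mul_mem hM (Subgroup.mem_inf.mp hx).1) (inv_mem hM), ?_⟩
  rw [mem_fixingSubgroup_iff]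
  intro q hq
  have hq' : g⁻¹ q ∈ o := by
    have h : g (g⁻¹ q) ∈ g • o := by rw [hgo]; simpa using hq
    exact pt_mem_smul.mp h
  show g (x (g⁻¹ q)) = q
  rw [show x (g⁻¹ q) = g⁻¹ q from (mem_fixingSubgroup_iff _).mp (Subgroup.mem_inf.mp hx).2 _ hq']
  simp

theorem fix_le_stab {x : Equiv.Perm GolayPt} (hx : x ∈ fixOct o) : x ∈ stabM o := by
  refine mem_stabM.mpr ⟨(Subgroup.mem_inf.mp hx).1, ?_⟩
  rw [smul_set_pts]
  conv_rhs => rw [← Finset.image_id (s := o)]
  exact Finset.image_congr fun q hq => (mem_fixingSubgroup_iff _).mp (Subgroup.mem_inf.mp hx).2 q hq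

theorem stab_notMem {g : Equiv.Perm GolayPt} (hg : g ∈ stabM o) {q : GolayPt} (hq : q ∉ o) : g q ∉ o := by
  intro h
  rw [← (mem_stabM.mp hg).2, pt_mem_smul] at h
  exact hq h

include ho

theorem fix_free {x : Equiv.Perm GolayPt} (hx : x ∈ fixOct o) {q : GolayPt} (hq : q ∉ o) (h : x q = q) :
    x = 1 := by
  have hmem : x ∈ fixOct o ⊓ octPt o q :=
    Subgroup.mem_inf.mpr ⟨hx, Subgroup.mem_inf.mpr ⟨fix_le_stab hx, h⟩⟩
  rw [(card_octPt ho hq).2.1] at hmem
  exact Subgroup.mem_bot.mp hmem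

theorem reach {q q' : GolayPt} (hq : q ∉ o) (hq' : q' ∉ o) : ∃ x : ↥(fixOct o), (x : Equiv.Perm GolayPt) q = q' := by
  classical
  let f : ↥(fixOct o) → {r : GolayPt // r ∉ o} := fun x =>
    ⟨(x : Equiv.Perm GolayPt) q, stab_notMem (fix_le_stab x.2) hq⟩
  have hf : Function.Injective f := fun x y e => by
    have e' : (x : Equiv.Perm GolayPt) q = (y : Equiv.Perm GolayPt) q := congrArg Subtype.val e
    have := fix_free ho (mul_mem (inv_mem y.2) x.2) hq (by
      rw [Equiv.Perm.mul_apply, e']; simp)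
    exact Subtype.ext (inv_mul_eq_one.mp this).symm
  have hcard : Nat.card {r : GolayPt // r ∉ o} = 16 := by
    rw [Nat.card_eq_fintype_card, Fintype.card_subtype_compl, Fintype.card_coe, card_of_mem_octads ho]
    norm_num [Fintype.card_option, ZMod.card]
  obtain ⟨x, hx⟩ := (((Nat.bijective_iff_injective_and_card f).mpr
    ⟨hf, by rw [(card_fixOct ho).1, hcard]⟩).2 ⟨q', hq'⟩)
  exact ⟨x, congrArg Subtype.val hx⟩

omit ho in
/-- The fixed group of an octad, transported along conjugation. -/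
def conjFix {g : Equiv.Perm GolayPt} (hg : g ∈ stabM o) (x : ↥(fixOct o)) : ↥(fixOct o) :=
  ⟨g * x * g⁻¹, fix_conj hg x.2⟩

omit ho in
/-- The linear part of an element of the octad stabiliser. -/
noncomputable def linPart (g : ↥(stabM o)) : W4 →ₗ[ZMod 2] W4 :=
  AddMonoidHom.toZModLinearMap 2
    { toFun := fun v => Multiplicative.toAdd (ψ (conjFix g.2 (ψ.symm (Multiplicative.ofAdd v))))
      map_zero' := by
        have : conjFix g.2 (1 : ↥(fixOct o)) = 1 := Subtype.ext (by simp [conjFix])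
        rw [ofAdd_zero, map_one, this, map_one, toAdd_one]
      map_add' := fun v w => by
        have : ∀ x y : ↥(fixOct o), conjFix g.2 (x * y) = conjFix g.2 x * conjFix g.2 y := fun x y =>
          Subtype.ext (by simp [conjFix, mul_assoc])
        rw [ofAdd_add, map_mul, this, map_mul, toAdd_mul] }

omit ho in
theorem linPart_apply (g : ↥(stabM o)) (x : ↥(fixOct o)) :
    linPart ψ g (Multiplicative.toAdd (ψ x)) = Multiplicative.toAdd (ψ (conjFix g.2 x)) := by
  simp [linPart]

omit ho in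
theorem linPart_mul (g h : ↥(stabM o)) : linPart ψ (g * h) = (linPart ψ g).comp (linPart ψ h) := by
  refine LinearMap.ext fun v => ?_
  obtain ⟨x, rfl⟩ : ∃ x, v = Multiplicative.toAdd (ψ x) := ⟨ψ.symm (Multiplicative.ofAdd v), by simp⟩
  rw [LinearMap.comp_apply, linPart_apply, linPart_apply, linPart_apply]
  congr 2

variable {p} (hp : p ∉ o)

include hp in
/-- The translation part of an element of the octad stabiliser. -/
noncomputable def transPart (g : ↥(stabM o)) : W4 :=
  Multiplicative.toAdd (ψ (reach ho hp (stab_notMem g.2 hp)).choose)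

theorem transPart_spec (g : ↥(stabM o)) (x : ↥(fixOct o)) (hx : (x : Equiv.Perm GolayPt) p = (g : Equiv.Perm GolayPt) p) :
    transPart ho ψ hp g = Multiplicative.toAdd (ψ x) := by
  unfold transPart
  have h := (reach ho hp (stab_notMem g.2 hp)).choose_spec
  congr 2
  set y := (reach ho hp (stab_notMem g.2 hp)).choose
  have := fix_free ho (mul_mem (inv_mem x.2) y.2) hp (by rw [Equiv.Perm.mul_apply, h, ← hx]; simp)
  exact Subtype.ext (inv_mul_eq_one.mp this).symm

theorem transPart_mul (g h : ↥(stabM o)) :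
    transPart ho ψ hp (g * h) = linPart ψ g (transPart ho ψ hp h) + transPart ho ψ hp g := by
  obtain ⟨x, hx⟩ := reach ho hp (stab_notMem g.2 hp)
  obtain ⟨y, hy⟩ := reach ho hp (stab_notMem h.2 hp)
  rw [transPart_spec ho ψ hp g x hx, transPart_spec ho ψ hp h y hy, linPart_apply, ← toAdd_mul, ← map_mul]
  refine transPart_spec ho ψ hp _ _ ?_
  show ((g : Equiv.Perm GolayPt) * y * (g : Equiv.Perm GolayPt)⁻¹) ((x : Equiv.Perm GolayPt) p) = _
  rw [hx]
  simp [hy]

/-- Coordinates for five dimensions. -/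
def five : Fin 5 ≃ (Fin 4 ⊕ Unit) where
  toFun := ![Sum.inl 0, Sum.inr (), Sum.inl 1, Sum.inl 2, Sum.inl 3]
  invFun := Sum.elim ![0, 2, 3, 4] fun _ => 1
  left_inv i := by fin_cases i <;> rfl
  right_inv i := by rcases i with j | j <;> [fin_cases j; cases j] <;> rfl

/-- The affine matrix of an element of the octad stabiliser. -/
noncomputable def affMat (g : ↥(stabM o)) : Matrix (Fin 4 ⊕ Unit) (Fin 4 ⊕ Unit) (ZMod 2) :=
  fromBlocks (LinearMap.toMatrix' (linPart ψ g)) (replicateCol Unit (transPart ho ψ hp g)) 0 1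

theorem affMat_mul (g h : ↥(stabM o)) : affMat ho ψ hp (g * h) = affMat ho ψ hp g * affMat ho ψ hp h := by
  simp only [affMat, fromBlocks_multiply, linPart_mul, LinearMap.toMatrix'_comp, transPart_mul]
  congr 1
  · simp
  · rw [Matrix.mul_one, replicateCol_add]
    congr 1
    ext i j
    rw [replicateCol_apply, mul_apply]
    conv_lhs => rw [← LinearMap.toMatrix'_mulVec]
    rfl
  · simp
  · simp

theorem eq_one_of_parts (g : ↥(stabM o)) (hl : linPart ψ g = LinearMap.id) (ht : transPart ho ψ hp g = 0) :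
    g = 1 := by
  refine Subtype.ext (eq_one_of_fix_compl ho (mem_stabM.mp g.2).1 fun q hq => ?_)
  obtain ⟨x, hx⟩ := reach ho hp (stab_notMem g.2 hp)
  rw [transPart_spec ho ψ hp g x hx] at ht
  have hx1 : x = 1 := ψ.injective (by rw [map_one]; exact ht)
  have hgp : (g : Equiv.Perm GolayPt) p = p := by rw [← hx, hx1]; rfl
  obtain ⟨y, hy⟩ := reach ho hp hq
  have hy' := linPart_apply ψ g y
  rw [hl, LinearMap.id_apply] at hy'
  have hye : (y : Equiv.Perm GolayPt) = (g : Equiv.Perm GolayPt) * y * (g : Equiv.Perm GolayPt)⁻¹ :=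
    congrArg Subtype.val (ψ.injective (Multiplicative.toAdd.injective hy'))
  calc (g : Equiv.Perm GolayPt) q = (g : Equiv.Perm GolayPt) ((y : Equiv.Perm GolayPt) p) := by rw [hy]
    _ = ((g : Equiv.Perm GolayPt) * y * (g : Equiv.Perm GolayPt)⁻¹) ((g : Equiv.Perm GolayPt) p) := by simp
    _ = q := by rw [hgp, ← hye, hy]

theorem affMat_one : affMat ho ψ hp 1 = 1 := by
  have h1 : linPart ψ (1 : ↥(stabM o)) = LinearMap.id := LinearMap.ext fun v => by
    obtain ⟨x, rfl⟩ : ∃ x, v = Multiplicative.toAdd (ψ x) := ⟨ψ.symm (Multiplicative.ofAdd v), by simp⟩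
    rw [linPart_apply, LinearMap.id_apply]; congr 2
  have h2 : transPart ho ψ hp 1 = 0 := by
    rw [transPart_spec ho ψ hp 1 1 rfl, map_one, toAdd_one]
  simp [affMat, h1, h2, LinearMap.toMatrix'_id, fromBlocks_one]

theorem affMat_det (g : ↥(stabM o)) : (affMat ho ψ hp g).det = 1 := by
  have h : (affMat ho ψ hp g).det * (affMat ho ψ hp g⁻¹).det = 1 := by
    rw [← det_mul, ← affMat_mul, mul_inv_cancel, affMat_one, det_one]
  revert h
  generalize (affMat ho ψ hp g).det = a, (affMat ho ψ hp g⁻¹).det = b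
  revert a b; decide

/-- The affine representation. -/
noncomputable def affHom : ↥(stabM o) →* Matrix.SpecialLinearGroup (Fin 5) (ZMod 2) where
  toFun g := ⟨(affMat ho ψ hp g).submatrix five five, by
    rw [det_submatrix_equiv_self]; exact affMat_det ho ψ hp g⟩
  map_one' := Subtype.ext (by simp [affMat_one, submatrix_one_equiv])
  map_mul' g h := Subtype.ext (by
    show (affMat ho ψ hp (g * h)).submatrix five five =
      (affMat ho ψ hp g).submatrix five five * (affMat ho ψ hp h).submatrix five five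
    rw [affMat_mul, submatrix_mul_equiv])

include hp in
theorem linPart_surj (M : W4 ≃ₗ[ZMod 2] W4) : ∃ g : ↥(octPt o p), linPart ψ ⟨g, (Subgroup.mem_inf.mp g.2).1⟩ = M.toLinearMap := by
  classical
  let f : ↥(octPt o p) → GL (Fin 4) (ZMod 2) := fun g =>
    ⟨LinearMap.toMatrix' (linPart ψ ⟨g, (Subgroup.mem_inf.mp g.2).1⟩),
      LinearMap.toMatrix' (linPart ψ ⟨g, (Subgroup.mem_inf.mp g.2).1⟩⁻¹),
      by
        have h : ∀ s : ↥(stabM o), LinearMap.toMatrix' (linPart ψ s) * LinearMap.toMatrix' (linPart ψ s⁻¹) = 1 :=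
          fun s => by
            rw [← LinearMap.toMatrix'_comp, ← linPart_mul, mul_inv_cancel]
            have := affMat_one ho ψ hp
            simp only [affMat, ← fromBlocks_one, fromBlocks_inj] at this
            exact this.1
        exact h _,
      by
        have h : ∀ s : ↥(stabM o), LinearMap.toMatrix' (linPart ψ s⁻¹) * LinearMap.toMatrix' (linPart ψ s) = 1 :=
          fun s => by
            rw [← LinearMap.toMatrix'_comp, ← linPart_mul, inv_mul_cancel]
            have := affMat_one ho ψ hp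
            simp only [affMat, ← fromBlocks_one, fromBlocks_inj] at this
            exact this.1
        exact h _⟩
  have hfix : ∀ g : ↥(octPt o p), (g : Equiv.Perm GolayPt) p = p := fun g => (Subgroup.mem_inf.mp g.2).2
  have hinj : Function.Injective f := fun a b e => by
    have e' : linPart ψ ⟨a, (Subgroup.mem_inf.mp a.2).1⟩ = linPart ψ ⟨b, (Subgroup.mem_inf.mp b.2).1⟩ :=
      LinearMap.toMatrix'.injective (congrArg Units.val e)
    have := eq_one_of_parts ho ψ hp
      ((⟨b, (Subgroup.mem_inf.mp b.2).1⟩ : ↥(stabM o))⁻¹ * ⟨a, (Subgroup.mem_inf.mp a.2).1⟩) (by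
        rw [linPart_mul, e', ← linPart_mul, inv_mul_cancel]
        have := affMat_one ho ψ hp
        simp only [affMat, ← fromBlocks_one, fromBlocks_inj] at this
        exact LinearMap.toMatrix'.injective (this.1.trans LinearMap.toMatrix'_id.symm)) (by
        rw [transPart_spec ho ψ hp _ 1 (by
          show p = ((b : Equiv.Perm GolayPt)⁻¹ * a) p
          rw [Equiv.Perm.mul_apply, hfix, Equiv.Perm.inv_eq_iff_eq.mpr (hfix b).symm]), map_one, toAdd_one])
    exact Subtype.ext (inv_mul_eq_one.mp (congrArg Subtype.val this)).symm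
  have hcard : Nat.card (GL (Fin 4) (ZMod 2)) = 20160 := by
    rw [Matrix.card_GL_field]; simp [ZMod.card, Fin.prod_univ_four]
  obtain ⟨g, hg⟩ := ((Nat.bijective_iff_injective_and_card f).mpr
    ⟨hinj, by rw [(card_octPt ho hp).1, hcard]⟩).2 (Matrix.GeneralLinearGroup.toLin.symm (LinearMap.GeneralLinearGroup.ofLinearEquiv M))
  refine ⟨g, LinearMap.toMatrix'.injective ?_⟩
  exact congrArg Units.val hg

omit ho hp

theorem five_symm (i : Fin 4) : five.symm (Sum.inl i) = ![0, 2, 3, 4] i ∧ five.symm (Sum.inr ()) = 1 := ⟨rfl, rfl⟩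

/-- Centralising the transvection. -/
theorem comm_transvec_iff (X : Matrix (Fin 5) (Fin 5) (ZMod 2)) :
    X * transvection 0 1 1 = transvection 0 1 1 * X ↔
      X 1 0 = 0 ∧ X 1 2 = 0 ∧ X 1 3 = 0 ∧ X 1 4 = 0 ∧ X 2 0 = 0 ∧ X 3 0 = 0 ∧ X 4 0 = 0 ∧ X 0 0 = X 1 1 := by
  have hT : transvection (0 : Fin 5) 1 (1 : ZMod 2) =
      !![1, 1, 0, 0, 0; 0, 1, 0, 0, 0; 0, 0, 1, 0, 0; 0, 0, 0, 1, 0; 0, 0, 0, 0, 1] := by decide
  rw [hT]
  constructor
  · intro h
    have a := congrFun₂ h
    have h11 := a 1 1; have h21 := a 2 1; have h31 := a 3 1; have h41 := a 4 1; have h01 := a 0 1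
    have h02 := a 0 2; have h03 := a 0 3; have h04 := a 0 4
    simp [Matrix.mul_apply, Fin.sum_univ_five] at h11 h21 h31 h41 h01 h02 h03 h04
    refine ⟨h11, ?_, ?_, ?_, h21, h31, h41, ?_⟩ <;>
      first
        | exact h02 | exact h03 | exact h04
        | (generalize X 0 0 = r, X 1 1 = s, X 0 1 = t at h01 ⊢; revert r s t; decide)
  · rintro ⟨h10, h12, h13, h14, h20, h30, h40, h00⟩
    ext i j
    fin_cases i <;> fin_cases j <;>
      simp [Matrix.mul_apply, Fin.sum_univ_five, h10, h12, h13, h14, h20, h30, h40, h00]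
    all_goals
      generalize X 1 1 = r, X 0 1 = t
      revert r t; decide

theorem main (s : Matrix.SpecialLinearGroup (Fin 5) (ZMod 2))
    (hs : (s : Matrix (Fin 5) (Fin 5) (ZMod 2)) = transvection 0 1 1) :
    ∃ z : ↥M24, orderOf z = 2 ∧ Nonempty (↥(Subgroup.centralizer ({z} : Set ↥M24)) ≃*
      ↥(Subgroup.centralizer ({s} : Set (Matrix.SpecialLinearGroup (Fin 5) (ZMod 2))))) := by
  classical
  have ho : O0 ∈ octads := toSet_mem_octads' (by norm_num) (by decide +kernel)
  obtain ⟨p, hp⟩ := exists_notMem_octad ho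
  obtain ⟨h16, hinv⟩ := card_fixOct ho
  haveI : Nontrivial ↥(fixOct O0) := Finite.one_lt_card_iff_nontrivial.mp (by rw [h16]; norm_num)
  obtain ⟨z, hz⟩ := exists_ne (1 : ↥(fixOct O0))
  obtain ⟨ψ, hψ⟩ := exists_coord h16 (fun a => Subtype.ext (hinv a a.2)) hz
  have hzM : (z : Equiv.Perm GolayPt) ∈ M24 := (Subgroup.mem_inf.mp z.2).1
  have hcent : ∀ g : ↥(Subgroup.centralizer ({(⟨z, hzM⟩ : ↥M24)} : Set ↥M24)),
      ((g : ↥M24) : Equiv.Perm GolayPt) ∈ stabM O0 := by
    intro g
    have hg : ((g : ↥M24) : Equiv.Perm GolayPt) * z = (z : Equiv.Perm GolayPt) * ((g : ↥M24) : Equiv.Perm GolayPt) :=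
      congrArg Subtype.val (Subgroup.mem_centralizer_singleton_iff.mp g.2)
    refine mem_stabM.mpr ⟨(g : ↥M24).2, Finset.eq_of_subset_of_card_le (fun q hq => ?_) (by rw [Finset.card_smul_finset])⟩
    obtain ⟨r, hr, rfl⟩ := Finset.mem_smul_finset.mp hq
    by_contra hgr
    refine hz (Subtype.ext (fix_free ho z.2 hgr ?_))
    have hzr : (z : Equiv.Perm GolayPt) r = r := (mem_fixingSubgroup_iff _).mp (Subgroup.mem_inf.mp z.2).2 r hr
    have h1 := Equiv.ext_iff.mp hg r
    rw [Equiv.Perm.mul_apply, Equiv.Perm.mul_apply, hzr] at h1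
    exact h1.symm
  have hentry : ∀ g : ↥(stabM O0), (g : Equiv.Perm GolayPt) * z = (z : Equiv.Perm GolayPt) * g ↔
      linPart ψ g (Pi.single 0 1) = Pi.single 0 1 := by
    intro g
    have h := linPart_apply ψ g z
    rw [hψ, toAdd_ofAdd] at h
    rw [h]
    constructor
    · intro hc
      have : conjFix g.2 z = z := Subtype.ext (show (g : Equiv.Perm GolayPt) * z * _⁻¹ = z by rw [hc]; simp)
      rw [this, hψ, toAdd_ofAdd]
    · intro hc
      have : conjFix g.2 z = z := ψ.injective (by rw [hψ]; exact Multiplicative.toAdd.injective hc)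
      exact mul_inv_eq_iff_eq_mul.mp (congrArg Subtype.val this)
  let Φ : ↥(Subgroup.centralizer ({(⟨z, hzM⟩ : ↥M24)} : Set ↥M24)) →*
      ↥(Subgroup.centralizer ({s} : Set (Matrix.SpecialLinearGroup (Fin 5) (ZMod 2)))) :=
    MonoidHom.codRestrict
      ((affHom ho ψ hp).comp
        ({ toFun := fun g => (⟨((g : ↥M24) : Equiv.Perm GolayPt), hcent g⟩ : ↥(stabM O0))
           map_one' := rfl
           map_mul' := fun _ _ => rfl } :
          ↥(Subgroup.centralizer ({(⟨z, hzM⟩ : ↥M24)} : Set ↥M24)) →* ↥(stabM O0))) _ fun g => by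
      rw [Subgroup.mem_centralizer_singleton_iff]
      refine Subtype.ext ?_
      have hcol := (hentry ⟨((g : ↥M24) : Equiv.Perm GolayPt), hcent g⟩).mp
        (congrArg Subtype.val (Subgroup.mem_centralizer_singleton_iff.mp g.2))
      show (affMat ho ψ hp _).submatrix five five * s.1 = s.1 * (affMat ho ψ hp _).submatrix five five
      rw [hs, comm_transvec_iff]
      have hc : ∀ i, LinearMap.toMatrix' (linPart ψ ⟨((g : ↥M24) : Equiv.Perm GolayPt), hcent g⟩) i 0 =
          (Pi.single 0 1 : W4) i := fun i => by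
        rw [LinearMap.toMatrix'_apply]
        exact congrFun ((congrArg _ (funext fun k => by simp [Pi.single_apply])).trans hcol) i
      simp [affMat, five, hc]
  refine ⟨⟨z, hzM⟩, orderOf_eq_prime (by
      rw [pow_two]; exact Subtype.ext (hinv z z.2)) (fun h => hz (Subtype.ext (congrArg (fun t : ↥M24 => (t : Equiv.Perm GolayPt)) h :))),
    ⟨MulEquiv.ofBijective Φ ⟨?_, ?_⟩⟩⟩
  · rw [injective_iff_map_eq_one]
    intro g hg
    have hg' : (affMat ho ψ hp ⟨((g : ↥M24) : Equiv.Perm GolayPt), hcent g⟩).submatrix five five = 1 :=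
      congrArg Subtype.val (congrArg Subtype.val hg)
    have hA : affMat ho ψ hp ⟨((g : ↥M24) : Equiv.Perm GolayPt), hcent g⟩ = 1 := by
      have := congrArg (fun M : Matrix (Fin 5) (Fin 5) (ZMod 2) => M.submatrix five.symm five.symm) hg'
      simpa [submatrix_one_equiv] using this
    rw [affMat, ← fromBlocks_one, fromBlocks_inj] at hA
    have := eq_one_of_parts ho ψ hp ⟨((g : ↥M24) : Equiv.Perm GolayPt), hcent g⟩
      (LinearMap.toMatrix'.injective (hA.1.trans LinearMap.toMatrix'_id.symm))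
      (funext fun i => congrFun₂ hA.2.1 i ())
    exact Subtype.ext (Subtype.ext (congrArg (fun t : ↥(stabM O0) => (t : Equiv.Perm GolayPt)) this))
  · rintro ⟨X, hX⟩
    have hX' : X.1 * transvection 0 1 1 = transvection 0 1 1 * X.1 := by
      have hc : X * s = s * X := Subgroup.mem_centralizer_singleton_iff.mp hX
      rw [← hs]; exact congrArg Subtype.val hc
    obtain ⟨h10, h12, h13, h14, h20, h30, h40, h00⟩ := (comm_transvec_iff _).mp hX'
    have h11 : X.1 1 1 = 1 := by
      rcases (show ∀ v : ZMod 2, v = 0 ∨ v = 1 by decide) (X.1 1 1) with e | e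
      · exfalso
        have := det_eq_zero_of_row_eq_zero (A := X.1) 1 (fun j => by fin_cases j <;> assumption)
        rw [X.2] at this
        exact one_ne_zero this
      · exact e
    rw [h11] at h00
    let Y : Matrix (Fin 4 ⊕ Unit) (Fin 4 ⊕ Unit) (ZMod 2) := X.1.submatrix five.symm five.symm
    have hY : Y = fromBlocks Y.toBlocks₁₁ Y.toBlocks₁₂ 0 1 := by
      conv_lhs => rw [← fromBlocks_toBlocks Y]
      congr 1
      · funext i j; fin_cases j <;> simp [Y, toBlocks₂₁, five, h10, h12, h13, h14]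
      · funext i j; simp [Y, toBlocks₂₂, five, h11]
    have hdet : Y.toBlocks₁₁.det ≠ 0 := by
      have h : Y.det = 1 := by rw [show Y = X.1.submatrix five.symm five.symm from rfl, det_submatrix_equiv_self, X.2]
      rw [hY, det_fromBlocks_zero₂₁, det_one, mul_one] at h
      rw [h]; exact one_ne_zero
    obtain ⟨g, hg⟩ := linPart_surj ho ψ hp (LinearEquiv.ofBijective (Matrix.toLin' Y.toBlocks₁₁) (by
      refine ⟨?_, ?_⟩
      · exact Matrix.mulVec_injective_iff_isUnit.mpr ((Matrix.isUnit_iff_isUnit_det _).mpr (isUnit_iff_ne_zero.mpr hdet))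
      · exact Matrix.mulVec_surjective_iff_isUnit.mpr ((Matrix.isUnit_iff_isUnit_det _).mpr (isUnit_iff_ne_zero.mpr hdet))))
    set v : W4 := fun i => Y.toBlocks₁₂ i () with hv
    set x : ↥(fixOct O0) := ψ.symm (Multiplicative.ofAdd v) with hx
    let gs : ↥(stabM O0) := ⟨g, (Subgroup.mem_inf.mp g.2).1⟩
    let h : ↥(stabM O0) := ⟨x, fix_le_stab x.2⟩ * gs
    have hxlin : linPart ψ (⟨x, fix_le_stab x.2⟩ : ↥(stabM O0)) = LinearMap.id := LinearMap.ext fun w => by
      obtain ⟨y, rfl⟩ : ∃ y, w = Multiplicative.toAdd (ψ y) := ⟨ψ.symm (Multiplicative.ofAdd w), by simp⟩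
      rw [linPart_apply, LinearMap.id_apply]
      congr 1
      have e : ψ (conjFix (fix_le_stab x.2) y) = ψ x * ψ y * (ψ x)⁻¹ := by
        rw [← map_inv, ← map_mul, ← map_mul]; rfl
      exact e.trans (by rw [mul_comm (ψ x), mul_inv_cancel_right])
    have hl : linPart ψ h = Matrix.toLin' Y.toBlocks₁₁ := by
      rw [linPart_mul, hxlin, LinearMap.id_comp]
      exact hg
    have ht : transPart ho ψ hp h = v := by
      rw [transPart_spec ho ψ hp h x (by
        show (x : Equiv.Perm GolayPt) p = (x : Equiv.Perm GolayPt) ((g : Equiv.Perm GolayPt) p)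
        rw [show (g : Equiv.Perm GolayPt) p = p from (Subgroup.mem_inf.mp g.2).2]), hx]
      simp
    have hfix : linPart ψ h (Pi.single 0 1) = Pi.single 0 1 := by
      rw [hl, Matrix.toLin'_apply, Matrix.mulVec_single_one]
      funext i; fin_cases i <;> simp [Y, toBlocks₁₁, five, h00, h20, h30, h40]
    have hc := (hentry h).mpr hfix
    refine ⟨⟨⟨h.1, (mem_stabM.mp h.2).1⟩, Subgroup.mem_centralizer_singleton_iff.mpr (Subtype.ext hc)⟩,
      Subtype.ext (Subtype.ext ?_)⟩
    show (affMat ho ψ hp h).submatrix five five = X.1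
    have hA : affMat ho ψ hp h = Y := by
      rw [affMat, hl, ht, LinearMap.toMatrix'_toLin']
      conv_rhs => rw [hY]
      congr 1
    rw [hA]
    simp [Y]

end CfsgOctAffine
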